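import Mathlib
import Groth.Prelude.Def_W4c6eohyperellchar2Gc

set_option linter.unusedSectionVars false

universe u

namespace Groth.Agent.Gc53

open W4c6eohyperellchar2

variable {c : ℕ} {k : Type u}

section Coef
variable [CommRing k]

theorem coefX_succ (v : GcMod c k) (i : Fin c) : coefX v (i.val + 1) = v.1 i := by
  rw [coefX, dif_pos ⟨by omega, by omega⟩]; simp

theorem coefY_succ (v : GcMod c k) (i : Fin c) : coefY v (i.val + 1) = v.2 i := by
  rw [coefY, dif_pos ⟨by omega, by omega⟩]; simp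

theorem coefX_X {n : ℕ} (h1 : 1 ≤ n) (h2 : n ≤ c) (t : ℕ) :
    coefX (X c k n) t = if t = n then 1 else 0 := by
  unfold coefX X
  split_ifs with ha hb <;> first | rfl | simp_all

theorem coefY_Y {n : ℕ} (h1 : 1 ≤ n) (h2 : n ≤ c) (t : ℕ) :
    coefY (Y c k n) t = if t = n then 1 else 0 := by
  unfold coefY Y
  split_ifs with ha hb <;> first | rfl | simp_all

theorem coefX_Y (n t : ℕ) : coefX (Y c k n) t = 0 := by
  unfold coefX Y; split_ifs <;> rfl

theorem coefY_X (n t : ℕ) : coefY (X c k n) t = 0 := by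
  unfold coefY X; split_ifs <;> rfl

theorem decomp (v : GcMod c k) :
    v = (∑ i : Fin c, v.1 i • X c k (i.val + 1)) + ∑ i : Fin c, v.2 i • Y c k (i.val + 1) := by
  ext i <;>
  · simp [X, Y, Prod.fst_sum, Prod.snd_sum, Finset.sum_apply, Fin.val_inj]

theorem F_X_even {j : ℕ} (h1 : 1 ≤ j) (h2 : 2 * j ≤ c) : F c k (X c k (2 * j)) = X c k j := by
  ext i
  · simp only [F, coefX_X (show 1 ≤ 2 * j by omega) h2]
    by_cases h : i.val + 1 = j <;> simp [X, h]
  · simp only [F, coefX_X (show 1 ≤ 2 * j by omega) h2]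
    rw [if_neg (by omega)]; simp [X]

theorem F_X_odd {j : ℕ} (h2 : 2 * j + 1 ≤ c) : F c k (X c k (2 * j + 1)) = Y c k (c - j) := by
  ext i
  · simp only [F, coefX_X (show 1 ≤ 2 * j + 1 by omega) h2]
    rw [if_neg (by omega)]; simp [Y]
  · simp only [F, coefX_X (show 1 ≤ 2 * j + 1 by omega) h2]
    by_cases h : i.val + 1 = c - j
    · rw [if_pos (by omega)]; simp [Y, h]
    · rw [if_neg (by omega)]; simp [Y, h]

variable [ExpChar k 2] [PerfectRing k 2]

theorem V_Y {j : ℕ} (h1 : 1 ≤ j) (h2 : j ≤ c) : V c k (Y c k j) = Y c k (2 * j) := by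
  ext i
  · simp [V, Y]
  · simp only [V, coefY_Y h1 h2, coefX_Y]
    by_cases h : i.val + 1 = 2 * j
    · rw [if_pos (by omega), if_pos (by omega)]; simp [Y, h]
    · by_cases h' : (i.val + 1) % 2 = 0
      · rw [if_pos h', if_neg (by omega)]; simp [Y, h]
      · rw [if_neg h']; simp [Y, h]

theorem V_X {j : ℕ} (h1 : 1 ≤ j) (h2 : j ≤ c) : V c k (X c k j) = Y c k (2 * c - 2 * j + 1) := by
  ext i
  · simp [V, Y]
  · simp only [V, coefX_X h1 h2, coefY_X]
    have hi := i.isLt
    by_cases h : i.val + 1 = 2 * c - 2 * j + 1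
    · rw [if_neg (by omega), if_pos (by omega)]; simp only [Y]; rw [if_pos h]; simp
    · by_cases h' : (i.val + 1) % 2 = 0
      · rw [if_pos h']; simp only [Y]; rw [if_neg h]; simp
      · rw [if_neg h', if_neg (by omega)]; simp only [Y]; rw [if_neg h]; simp

theorem F_iterate_X {e l : ℕ} (hl : 1 ≤ l) (h : 2 ^ e * l ≤ c) :
    (F c k)^[e] (X c k (2 ^ e * l)) = X c k l := by
  induction e with
  | zero => simp
  | succ e ih =>
    have he : 1 ≤ 2 ^ e * l := Nat.mul_pos (pow_pos two_pos _) hl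
    rw [pow_succ', mul_assoc] at h ⊢
    rw [Function.iterate_succ_apply, F_X_even he h]
    exact ih (by omega)

theorem V_iterate_Y {n m : ℕ} (hm : 1 ≤ m) (h : 2 ^ n * m ≤ c) :
    (V c k)^[n] (Y c k m) = Y c k (2 ^ n * m) := by
  induction n generalizing m with
  | zero => simp
  | succ n ih =>
    rw [pow_succ, mul_assoc] at h ⊢
    have : 2 * m ≤ c := le_trans (Nat.le_mul_of_pos_left _ (pow_pos two_pos _)) h
    rw [Function.iterate_succ_apply, V_Y hm (by omega)]
    exact ih (by omega) h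

/-- A subspace containing the images of both operators contains every `Y`. -/
theorem Y_mem {k : Type u} [Field k] [ExpChar k 2] [PerfectRing k 2] (N : Submodule k (GcMod c k))
    (hVY : ∀ j, 1 ≤ j → j ≤ c → Y c k j ∈ N → V c k (Y c k j) ∈ N)
    (hVX : ∀ j, c < 2 * j → j ≤ c → V c k (X c k j) ∈ N) :
    ∀ m, 1 ≤ m → m ≤ c → Y c k m ∈ N := by
  intro m
  induction m using Nat.strong_induction_on with
  | _ m ih =>
    intro h1 h2
    rcases Nat.even_or_odd' m with ⟨t, rfl | rfl⟩
    · have := hVY t (by omega) (by omega) (ih t (by omega) (by omega) (by omega))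
      rwa [V_Y (by omega) (by omega)] at this
    · have := hVX (c - t) (by omega) (by omega)
      rwa [V_X (by omega) (by omega), show 2 * c - 2 * (c - t) + 1 = 2 * t + 1 by omega] at this

end Coef

end Groth.Agent.Gc53
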